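import Mathlib
import Cfsg.Agent.Classical.Linear.Card

/-!
Endomorphisms commuting with a nonzero nilpotent one: a bound on their prime orders.
-/

set_option autoImplicit false

namespace CfsgLib.CommutingOrderP

open Module

variable {F : Type*} [Field F]

/-- A prime dividing `q ^ j - 1`, `j ≤ m`, or equal to `p`, divides `|SL_m(q)|`. -/
theorem dvd_card_sl_of_sub_one [Fintype F] {m r : ℕ} (hm : 2 ≤ m)
    (h : r ∣ Fintype.card F - 1) :
    r ∣ Nat.card (Matrix.SpecialLinearGroup (Fin m) F) := by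
  classical
  let i0 : Fin m := ⟨0, by omega⟩
  let i1 : Fin m := ⟨1, by omega⟩
  have h01 : i0 ≠ i1 := by simp [i0, i1, Fin.ext_iff]
  let d : Fˣ → (Fin m → F) := fun t i =>
    if i = i0 then (t : F) else if i = i1 then ((t⁻¹ : Fˣ) : F) else 1
  have hdet : ∀ t, (Matrix.diagonal (d t)).det = 1 := fun t => by
    rw [Matrix.det_diagonal, Fintype.prod_eq_mul i0 i1 h01]
    · simp [d, h01.symm]
    · rintro i ⟨h0, h1⟩
      simp [d, h0, h1]
  let φ : Fˣ →* Matrix.SpecialLinearGroup (Fin m) F :=
    { toFun := fun t => ⟨Matrix.diagonal (d t), hdet t⟩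
      map_one' := by
        apply Subtype.ext
        show Matrix.diagonal (d 1) = 1
        rw [← Matrix.diagonal_one]
        congr 1
        funext i
        simp only [d]
        split_ifs <;> simp
      map_mul' := fun s t => by
        apply Subtype.ext
        show Matrix.diagonal (d (s * t)) = Matrix.diagonal (d s) * Matrix.diagonal (d t)
        rw [Matrix.diagonal_mul_diagonal]
        congr 1
        funext i
        simp only [d]
        split_ifs <;> simp [mul_inv, mul_comm] }
  have hinj : Function.Injective φ := by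
    intro s t hst
    have h' := congrFun (congrFun (congrArg Subtype.val hst) i0) i0
    change Matrix.diagonal (d s) i0 i0 = Matrix.diagonal (d t) i0 i0 at h'
    simpa [d, Units.ext_iff] using h'
  rw [← CfsgLib.Classical.Linear.natCard_units] at h
  exact h.trans (Subgroup.card_dvd_of_injective φ hinj)

theorem dvd_card_sl_of_pow_sub_one [Fintype F] {m r j : ℕ} (hr : r.Prime) (hm : 2 ≤ m)
    (hj : 1 ≤ j) (hjm : j ≤ m) (h : r ∣ Fintype.card F ^ j - 1) :
    r ∣ Nat.card (Matrix.SpecialLinearGroup (Fin m) F) := by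
  have hi : m - j < m := by omega
  have hfac : r ∣ Fintype.card F ^ m - Fintype.card F ^ (m - j) := by
    have : Fintype.card F ^ m - Fintype.card F ^ (m - j) =
        Fintype.card F ^ (m - j) * (Fintype.card F ^ j - 1) := by
      rw [Nat.mul_sub, mul_one, ← pow_add]
      congr 2
      omega
    rw [this]
    exact h.mul_left _
  have h2 := hfac.trans (Finset.dvd_prod_of_mem
    (fun i : Fin m => Fintype.card F ^ m - Fintype.card F ^ (i : ℕ))
    (Finset.mem_univ (⟨m - j, hi⟩ : Fin m)))
  rw [← CfsgLib.Classical.Linear.card_sl m (by omega)] at h2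
  rcases hr.dvd_mul.1 h2 with h3 | h3
  · exact dvd_card_sl_of_sub_one hm h3
  · exact h3

theorem char_dvd_card_sl [Fintype F] {m p : ℕ} [CharP F p] (hp : p.Prime) (hm : 2 ≤ m) :
    p ∣ Nat.card (Matrix.SpecialLinearGroup (Fin m) F) := by
  obtain ⟨k, -, hk⟩ := FiniteField.card F p
  have hq : p ∣ Fintype.card F := hk ▸ dvd_pow_self p k.pos.ne'
  have hfac : p ∣ Fintype.card F ^ m - Fintype.card F ^ 1 :=
    Nat.dvd_sub (hq.trans (dvd_pow_self _ (by omega))) (hq.trans (dvd_pow_self _ one_ne_zero))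
  have h2 := hfac.trans (Finset.dvd_prod_of_mem
    (fun i : Fin m => Fintype.card F ^ m - Fintype.card F ^ (i : ℕ))
    (Finset.mem_univ (⟨1, by omega⟩ : Fin m)))
  rw [← CfsgLib.Classical.Linear.card_sl m (by omega)] at h2
  rcases hp.dvd_mul.1 h2 with h3 | h3
  · exfalso
    have h1 : 1 ≤ Fintype.card F := Fintype.card_pos
    have := Nat.dvd_sub hq h3
    rw [Nat.sub_sub_self h1] at this
    exact hp.not_dvd_one this
  · exact h3

/-- An endomorphism of prime order `r ∤ |SL_m(q)|` fixes an invariant subspace of dimension `≤ m`. -/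
theorem eq_self_of_finrank_le [Fintype F] {V : Type*} [AddCommGroup V] [Module F V]
    [FiniteDimensional F V] {m p r : ℕ} [CharP F p] (hp : p.Prime) (hr : r.Prime) (hm : 2 ≤ m)
    (hnd : ¬ r ∣ Nat.card (Matrix.SpecialLinearGroup (Fin m) F))
    (Y : Module.End F V) (hY : Y ^ r = 1) (W : Submodule F V) (hW : ∀ w ∈ W, Y w ∈ W)
    (hd : finrank F W ≤ m) : ∀ w ∈ W, Y w = w := by
  classical
  set f : Module.End F W := LinearMap.restrict Y hW
  have hfpow : ∀ (k : ℕ) (w : W), ((f ^ k) w : V) = (Y ^ k) (w : V) := by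
    intro k
    induction k with
    | zero => intro w; rfl
    | succ k ih =>
      intro w
      rw [pow_succ, pow_succ, Module.End.mul_apply, Module.End.mul_apply, ih]
      rfl
  have hf : f ^ r = 1 := by
    refine LinearMap.ext fun w => Subtype.ext ?_
    rw [hfpow, hY]
    rfl
  set u : (Module.End F W)ˣ := Units.ofPowEqOne f r hf hr.ne_zero
  have hur : u ^ r = 1 := Units.ext (by rw [Units.val_pow_eq_pow_val]; exact hf)
  rcases (Nat.dvd_prime hr).1 (orderOf_dvd_of_pow_eq_one hur) with h1 | h1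
  · intro w hw
    have hu : u = 1 := orderOf_eq_one_iff.1 h1
    have hf1 : f = 1 := congrArg Units.val hu
    exact congrArg Subtype.val (LinearMap.congr_fun hf1 ⟨w, hw⟩)
  · exfalso
    apply hnd
    let b := Module.finBasis F W
    have hdvd : r ∣ Nat.card (GL (Fin (finrank F W)) F) := by
      rw [← Nat.card_congr (Units.mapEquiv (algEquivMatrix b).toRingEquiv.toMulEquiv).toEquiv]
      exact h1 ▸ orderOf_dvd_natCard u
    rw [Matrix.card_GL_field] at hdvd
    obtain ⟨i, -, hi⟩ := (hr.prime.dvd_finset_prod_iff _).1 hdvd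
    have he : Fintype.card F ^ finrank F W - Fintype.card F ^ (i : ℕ) =
        Fintype.card F ^ (i : ℕ) * (Fintype.card F ^ (finrank F W - i) - 1) := by
      rw [Nat.mul_sub, mul_one, ← pow_add]
      congr 2
      omega
    rw [he] at hi
    rcases hr.dvd_mul.1 hi with h | h
    · obtain ⟨k, -, hk⟩ := FiniteField.card F p
      have := (Nat.prime_dvd_prime_iff_eq hr hp).1 (hr.dvd_of_dvd_pow
        (hk ▸ hr.dvd_of_dvd_pow h))
      exact this ▸ char_dvd_card_sl hp hm
    · exact dvd_card_sl_of_pow_sub_one hr hm (by omega) (by omega) h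

/-- If `Y` of order dividing `r` commutes with a nilpotent `N` and fixes pointwise its invariant
subspaces of codimension at least two, then `N = 0` or `Y = 1`. -/
theorem eq_zero_or_eq_one {V : Type*} [AddCommGroup V] [Module F V] [FiniteDimensional F V]
    {m r k : ℕ} (hr0 : (r : F) ≠ 0) (hn : finrank F V = m + 2) (hm : 1 ≤ m)
    (N Y : Module.End F V) (hN : N ^ k = 0) (hY : Y ^ r = 1) (hc : Commute Y N)
    (hfix : ∀ W : Submodule F V, (∀ w ∈ W, Y w ∈ W) → finrank F W ≤ m → ∀ w ∈ W, Y w = w) :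
    N = 0 ∨ Y = 1 := by
  classical
  rcases eq_or_ne Y 1 with hY1 | hY1
  · exact Or.inr hY1
  left
  set M : Module.End F V := Y - 1 with hMdef
  have hMv : ∀ v, M v = Y v - v := fun v => rfl
  have hinj : ∀ v, M (M v) = 0 → M v = 0 := by
    intro v hv
    set w := M v with hw
    have hYw : Y w = w := sub_eq_zero.1 (by rw [← hMv]; exact hv)
    have hYv : Y v = v + w := by rw [hw, hMv]; abel
    have hpow : ∀ j : ℕ, (Y ^ j) v = v + (j : F) • w := by
      intro j
      induction j with
      | zero => simp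
      | succ j ih =>
        rw [pow_succ', Module.End.mul_apply, ih, map_add, map_smul, hYv, hYw, Nat.cast_succ,
          add_smul, one_smul]
        abel
    have := hpow r
    rw [hY, Module.End.one_apply] at this
    exact (smul_eq_zero.1 (by simpa using this)).resolve_left hr0
  set U := LinearMap.range M with hU
  have hYN : ∀ v, Y (N v) = N (Y v) := fun v => LinearMap.congr_fun hc.eq v
  have hMN : ∀ v, M (N v) = N (M v) := fun v => by rw [hMv, hMv, map_sub, hYN]
  have hUY : ∀ w ∈ U, Y w ∈ U := by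
    rintro w ⟨v, rfl⟩
    exact ⟨Y v, by rw [hMv, hMv, map_sub]⟩
  have hUfix : ∀ w ∈ U, Y w = w → w = 0 := by
    rintro w ⟨v, rfl⟩ hw
    exact hinj v (by rw [hMv, hw, sub_self])
  have hUdim : m + 1 ≤ finrank F U := by
    by_contra h
    apply hY1
    refine LinearMap.ext fun v => sub_eq_zero.1 ?_
    have := hUfix (M v) ⟨v, rfl⟩ (hfix U hUY (by omega) _ ⟨v, rfl⟩)
    exact (hMv v).symm.trans this
  set K := U ⊓ LinearMap.ker N with hK
  have hKY : ∀ w ∈ K, Y w ∈ K := fun w hw => ⟨hUY w hw.1, by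
    simp only [SetLike.mem_coe, LinearMap.mem_ker]
    rw [← hYN, LinearMap.mem_ker.1 hw.2, map_zero]⟩
  have hUne : ∃ x ∈ U, x ≠ 0 := by
    have : U ≠ ⊥ := by
      intro h
      rw [h, finrank_bot] at hUdim
      omega
    exact U.ne_bot_iff.1 this
  have hKdim : m + 1 ≤ finrank F K := by
    by_contra h
    obtain ⟨x, hxU, hx0⟩ := hUne
    have hpowU : ∀ j : ℕ, (N ^ j) x ∈ U := by
      intro j
      induction j with
      | zero => simpa using hxU
      | succ j ih =>
        obtain ⟨v, hv⟩ := ih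
        exact ⟨N v, by rw [hMN, hv, pow_succ', Module.End.mul_apply]⟩
    have hex : ∃ j, (N ^ j) x = 0 := ⟨k, by rw [hN]; rfl⟩
    obtain ⟨j, hj, hmin⟩ : ∃ j, (N ^ j) x = 0 ∧ ∀ i < j, (N ^ i) x ≠ 0 :=
      ⟨Nat.find hex, Nat.find_spec hex, fun i hi => Nat.find_min hex hi⟩
    rcases j with _ | j
    · simp [hx0] at hj
    have hmem : (N ^ j) x ∈ K := ⟨hpowU j, by
      simp only [SetLike.mem_coe, LinearMap.mem_ker]
      rwa [← Module.End.mul_apply, ← pow_succ']⟩
    exact hmin j (Nat.lt_succ_self j)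
      (hUfix _ hmem.1 (hfix K hKY (by omega) _ hmem))
  have hkerdim : m + 1 ≤ finrank F (LinearMap.ker N) :=
    hKdim.trans (Submodule.finrank_mono inf_le_right)
  have hrk := LinearMap.finrank_range_add_finrank_ker N
  have hRY : ∀ w ∈ LinearMap.range N, Y w ∈ LinearMap.range N := by
    rintro w ⟨v, rfl⟩
    exact ⟨Y v, (hYN v).symm⟩
  have hR1 : finrank F (LinearMap.range N) ≤ 1 := by omega
  have hRfix : ∀ v, M (N v) = 0 := fun v => by
    rw [hMv, hfix _ hRY (by omega) _ ⟨v, rfl⟩, sub_self]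
  by_contra hN0
  have hUle : U ≤ LinearMap.ker N := by
    rintro w ⟨v, rfl⟩
    rw [LinearMap.mem_ker, ← hMN, hRfix]
  have hkerlt : finrank F (LinearMap.ker N) ≤ m + 1 := by
    have : LinearMap.ker N ≠ ⊤ := fun h => hN0 (LinearMap.ker_eq_top.1 h)
    have := Submodule.finrank_lt this
    omega
  have hUeq : U = LinearMap.ker N := Submodule.eq_of_le_of_finrank_le hUle (by omega)
  apply hN0
  refine LinearMap.ext fun v => ?_
  by_contra hv
  change N v ≠ 0 at hv
  have hsp : LinearMap.range N = Submodule.span F {N v} := by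
    refine (Submodule.eq_of_le_of_finrank_le ?_ ?_).symm
    · rw [Submodule.span_singleton_le_iff_mem]
      exact ⟨v, rfl⟩
    · rw [finrank_span_singleton hv]
      exact hR1
  have hNN : N (N v) ∈ Submodule.span F {N v} := by
    rw [← hsp]
    exact ⟨N v, rfl⟩
  obtain ⟨c, hc'⟩ := Submodule.mem_span_singleton.1 hNN
  have hpow : ∀ j : ℕ, (N ^ j) (N v) = c ^ j • N v := by
    intro j
    induction j with
    | zero => simp
    | succ j ih => rw [pow_succ', Module.End.mul_apply, ih, map_smul, ← hc', smul_smul, pow_succ]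
  have hc0 : c = 0 := by
    have := hpow k
    rw [hN, LinearMap.zero_apply] at this
    exact pow_eq_zero_iff'.1 ((smul_eq_zero.1 this.symm).resolve_right hv) |>.1
  have hmem : N v ∈ U := by
    rw [hUeq, LinearMap.mem_ker, ← hc', hc0, zero_smul]
  exact hv (hUfix _ hmem (sub_eq_zero.1 ((hMv _).symm.trans (hRfix v))))

/-- Lift of an element of prime order through a finite central kernel of coprime order. -/
theorem exists_lift_pow {G : Type*} [Group G] [Finite G] (Z : Subgroup G) [Z.Normal] {s : ℕ}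
    (hcop : Nat.Coprime s (Nat.card Z)) (x : G ⧸ Z) (hx : orderOf x = s) :
    ∃ g : G, g ^ s = 1 ∧ (g : G ⧸ Z) = x ^ Nat.card Z ∧ orderOf (x ^ Nat.card Z) = s := by
  obtain ⟨g, rfl⟩ := QuotientGroup.mk_surjective x
  refine ⟨g ^ Nat.card Z, ?_, rfl, ?_⟩
  · have hmem : g ^ s ∈ Z := by
      rw [← QuotientGroup.eq_one_iff, QuotientGroup.mk_pow, ← hx, pow_orderOf_eq_one]
    rw [pow_right_comm]
    exact congrArg Subtype.val (pow_card_eq_one' (x := (⟨g ^ s, hmem⟩ : Z)))
  · rw [Nat.Coprime.orderOf_pow (by rw [hx]; exact hcop), hx]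

theorem commute_of_lifts {G : Type*} [Group G] [Finite G] (Z : Subgroup G) [Z.Normal]
    (hZ : Z ≤ Subgroup.center G) {s : ℕ} (hcop : Nat.Coprime s (Nat.card Z)) (g h : G)
    (hg : g ^ s = 1) (hgh : Commute (g : G ⧸ Z) (h : G ⧸ Z)) : Commute g h := by
  set z := g * h * g⁻¹ * h⁻¹ with hz
  have hzZ : z ∈ Z := by
    rw [← QuotientGroup.eq_one_iff, hz, QuotientGroup.mk_mul, QuotientGroup.mk_mul,
      QuotientGroup.mk_mul, QuotientGroup.mk_inv, QuotientGroup.mk_inv, hgh.eq]
    group
  have hzc : ∀ a, Commute a z := fun a => Subgroup.mem_center_iff.1 (hZ hzZ) a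
  have hconj : ∀ j : ℕ, g ^ j * h * (g ^ j)⁻¹ = z ^ j * h := by
    intro j
    induction j with
    | zero => simp
    | succ j ih =>
      calc g ^ (j + 1) * h * (g ^ (j + 1))⁻¹ = g * (g ^ j * h * (g ^ j)⁻¹) * g⁻¹ := by
            rw [pow_succ']; group
        _ = g * (z ^ j * h) * g⁻¹ := by rw [ih]
        _ = z ^ j * (g * h * g⁻¹) := by
            rw [← mul_assoc g, ((hzc g).pow_right j).eq]; group
        _ = z ^ (j + 1) * h := by rw [pow_succ, hz]; group
  have h1 := hconj s
  rw [hg, inv_one, mul_one, one_mul, right_eq_mul] at h1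
  have h2 : z ^ Nat.card Z = 1 := congrArg Subtype.val (pow_card_eq_one' (x := (⟨z, hzZ⟩ : Z)))
  have h3 : z = 1 := pow_gcd_eq_one.2 ⟨h1, h2⟩ |> fun h => by rwa [hcop, pow_one] at h
  have h4 := hconj 1
  rw [h3, pow_one, one_pow, one_mul, mul_inv_eq_iff_eq_mul] at h4
  exact h4

end CfsgLib.CommutingOrderP
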